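import Mathlib.GroupTheory.FiniteAbelian.Basic
import Mathlib.Topology.Separation.Profinite
import Mathlib.Topology.Algebra.OpenSubgroup
import Mathlib.Algebra.Module.CharacterModule
import Mathlib.Algebra.Module.Torsion.Basic
import Mathlib.GroupTheory.Finiteness
import Mathlib.RingTheory.Finiteness.Basic
import Mathlib.Order.Zorn

/-!
Subgroups of finite index avoiding elements; open subgroups of totally disconnected groups.
-/

namespace Groth.Agent.PC28

open Filter Topology Set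

variable {A : Type*} [AddCommGroup A]

theorem exists_maximal_avoiding (a : A) (S : AddSubgroup A) (ha : a ∉ S) :
    ∃ P : AddSubgroup A, S ≤ P ∧ a ∉ P ∧ ∀ Q : AddSubgroup A, P ≤ Q → a ∉ Q → Q ≤ P := by
  obtain ⟨P, hSP, ⟨hP, hmax⟩⟩ := zorn_le_nonempty₀ {Q : AddSubgroup A | a ∉ Q} (fun c hc hchain y hy => by
    refine ⟨sSup c, ?_, fun z hz => le_sSup hz⟩
    show a ∉ sSup c
    rw [AddSubgroup.mem_sSup_of_directedOn ⟨y, hy⟩ hchain.directedOn]
    rintro ⟨Q, hQ, haQ⟩
    exact hc hQ haQ) S ha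
  exact ⟨P, hSP, hP, fun Q hPQ hQ => hmax hQ hPQ⟩

theorem mk_mem_of_ne_bot {a : A} {P : AddSubgroup A}
    (hmax : ∀ Q : AddSubgroup A, P ≤ Q → a ∉ Q → Q ≤ P) (B : AddSubgroup (A ⧸ P)) (hB : B ≠ ⊥) :
    (a : A ⧸ P) ∈ B := by
  by_contra h
  apply hB
  rw [eq_bot_iff]
  intro x hx
  obtain ⟨y, rfl⟩ := QuotientAddGroup.mk_surjective x
  have hle : B.comap (QuotientAddGroup.mk' P) ≤ P := by
    refine hmax _ (fun p hp => ?_) h
    show (p : A ⧸ P) ∈ B
    rw [(QuotientAddGroup.eq_zero_iff p).2 hp]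
    exact B.zero_mem
  exact (QuotientAddGroup.eq_zero_iff y).2 (hle hx)

theorem exists_multiple_eq {a : A} (h : ∀ B : AddSubgroup A, B ≠ ⊥ → a ∈ B) {x : A} (hx : x ≠ 0) :
    ∃ m : ℤ, m • x = a := by
  have := h (AddSubgroup.zmultiples x) (by simpa using hx)
  exact AddSubgroup.mem_zmultiples_iff.1 this

theorem isOfFinAddOrder_of_mem_every {a : A} (ha : a ≠ 0)
    (h : ∀ B : AddSubgroup A, B ≠ ⊥ → a ∈ B) (x : A) : IsOfFinAddOrder x := by
  have haf : IsOfFinAddOrder a := by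
    rw [isOfFinAddOrder_iff_zsmul_eq_zero]
    by_cases h2 : (2 : ℤ) • a = 0
    · exact ⟨2, by norm_num, h2⟩
    · obtain ⟨m, hm⟩ := exists_multiple_eq h h2
      refine ⟨m * 2 - 1, by omega, ?_⟩
      rw [sub_smul, mul_smul, hm, one_smul, sub_self]
  by_cases hx : x = 0
  · subst hx; exact IsOfFinAddOrder.zero
  obtain ⟨m, hm⟩ := exists_multiple_eq h hx
  obtain ⟨n, hn, hna⟩ := isOfFinAddOrder_iff_zsmul_eq_zero.1 haf
  refine isOfFinAddOrder_iff_zsmul_eq_zero.2 ⟨n * m, mul_ne_zero hn ?_, ?_⟩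
  · rintro rfl
    exact ha (by simpa using hm.symm)
  · rw [mul_smul, hm, hna]

theorem finite_of_exponent (hA : AddMonoid.exponent A ≠ 0) (a : A) (ha : a ≠ 0)
    (h : ∀ B : AddSubgroup A, B ≠ ⊥ → a ∈ B) : Finite A := by
  have key : ∀ k : ℕ, 0 < k → {x : A | k • x = 0}.Finite := by
    intro k
    induction k using Nat.strong_induction_on with
    | _ k ih =>
      intro hk
      rcases Nat.lt_or_ge 1 k with h1 | h1
      · obtain ⟨q, hq, ⟨j, rfl⟩⟩ := Nat.exists_prime_and_dvd (n := k) (by omega)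
        have hj : 0 < j := Nat.pos_of_ne_zero (by rintro rfl; simp at hk)
        have hlt : j < q * j := by have := hq.two_le; nlinarith
        have hqfin : {x : A | q • x = 0}.Finite := by
          refine (Set.Finite.insert 0 ((isOfFinAddOrder_of_mem_every ha h a).finite_zmultiples)).subset ?_
          intro x hx
          by_cases hx0 : x = 0
          · exact Or.inl hx0
          refine Or.inr ?_
          obtain ⟨m, hm⟩ := exists_multiple_eq h hx0
          have hnd : ¬ (q : ℤ) ∣ m := by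
            rintro ⟨c, rfl⟩
            apply ha
            rw [← hm, mul_comm, mul_smul, natCast_zsmul]
            simp [show q • x = 0 from hx]
          obtain ⟨u, v, huv⟩ := (Nat.prime_iff_prime_int.1 hq).coprime_iff_not_dvd.2 hnd
          refine AddSubgroup.mem_zmultiples_iff.2 ⟨v, ?_⟩
          calc v • a = (u * (q : ℤ) + v * m) • x := by
                rw [add_smul, mul_smul, mul_smul, natCast_zsmul, show q • x = 0 from hx, hm]
                simp
            _ = x := by rw [huv, one_smul]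
        refine Set.Finite.of_finite_fibers (fun x => q • x) ((ih j hlt hj).subset ?_) ?_
        · rintro _ ⟨x, hx, rfl⟩
          show j • q • x = 0
          rw [← mul_nsmul]
          exact hx
        · rintro _ ⟨x₀, hx₀, rfl⟩
          refine ((hqfin.image fun z => x₀ + z)).subset ?_
          rintro x ⟨-, hx⟩
          refine ⟨x - x₀, ?_, by abel⟩
          show q • (x - x₀) = 0
          rw [nsmul_sub, sub_eq_zero]
          exact hx
      · obtain rfl : k = 1 := by omega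
        simp
  have : (Set.univ : Set A).Finite := (key _ (Nat.pos_of_ne_zero hA)).subset
    fun x _ => AddMonoid.exponent_nsmul_eq_zero x
  exact Set.finite_univ_iff.1 this

theorem finite_of_fg_of_torsion [AddGroup.FG A] (h : ∀ x : A, IsOfFinAddOrder x) : Finite A := by
  have : Module.Finite ℤ A := Module.Finite.iff_addGroup_fg.2 inferInstance
  refine Module.finite_of_fg_torsion A ?_
  intro x
  obtain ⟨n, hn, hnx⟩ := isOfFinAddOrder_iff_zsmul_eq_zero.1 (h x)
  exact ⟨⟨n, mem_nonZeroDivisors_of_ne_zero hn⟩, hnx⟩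

theorem exists_finiteIndex_avoiding_of_fg [AddGroup.FG A] (a : A) (S : AddSubgroup A)
    (ha : a ∉ S) : ∃ K : AddSubgroup A, S ≤ K ∧ K.FiniteIndex ∧ a ∉ K := by
  obtain ⟨P, hSP, haP, hmax⟩ := exists_maximal_avoiding a S ha
  have := finite_of_fg_of_torsion (A := A ⧸ P) (isOfFinAddOrder_of_mem_every
    (a := (a : A ⧸ P)) (fun h => haP ((QuotientAddGroup.eq_zero_iff a).1 h)) (mk_mem_of_ne_bot hmax))
  exact ⟨P, hSP, AddSubgroup.finiteIndex_of_finite_quotient, haP⟩

theorem exists_finiteIndex_avoiding_of_nsmul (n : ℕ) (hn : n ≠ 0) (a : A) (S : AddSubgroup A)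
    (hS : ∀ x : A, n • x ∈ S) (ha : a ∉ S) :
    ∃ K : AddSubgroup A, S ≤ K ∧ K.FiniteIndex ∧ a ∉ K := by
  obtain ⟨P, hSP, haP, hmax⟩ := exists_maximal_avoiding a S ha
  have hexp : AddMonoid.exponent (A ⧸ P) ≠ 0 := by
    refine AddMonoid.exponent_ne_zero.2 ⟨n, Nat.pos_of_ne_zero hn, fun x => ?_⟩
    obtain ⟨y, rfl⟩ := QuotientAddGroup.mk_surjective x
    exact (QuotientAddGroup.eq_zero_iff _).2 (hSP (hS y))
  have := finite_of_exponent hexp (a : A ⧸ P)
    (fun h => haP ((QuotientAddGroup.eq_zero_iff a).1 h)) (mk_mem_of_ne_bot hmax)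
  exact ⟨P, hSP, AddSubgroup.finiteIndex_of_finite_quotient, haP⟩

theorem exists_finiteIndex_comap_le {B : Type*} [AddCommGroup B] (i : A →+ B) (U : AddSubgroup A)
    [U.FiniteIndex] (S : AddSubgroup B)
    (h : ∀ a, a ∉ U → ∃ K : AddSubgroup B, S ≤ K ∧ U ≤ K.comap i ∧ K.FiniteIndex ∧ i a ∉ K) :
    ∃ K : AddSubgroup B, S ≤ K ∧ K.FiniteIndex ∧ K.comap i ≤ U := by
  classical
  have hK : ∀ q : {q : A ⧸ U // q ≠ 0}, ∃ K : AddSubgroup B,
      S ≤ K ∧ U ≤ K.comap i ∧ K.FiniteIndex ∧ i q.1.out ∉ K := fun q => h _ fun hq => by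
    apply q.2
    rw [← q.1.out_eq]
    exact (QuotientAddGroup.eq_zero_iff _).2 hq
  choose K hSK hUK hKfi hKq using hK
  have := Fintype.ofFinite {q : A ⧸ U // q ≠ 0}
  refine ⟨⨅ q, K q, le_iInf hSK, AddSubgroup.finiteIndex_iInf hKfi, fun a ha => ?_⟩
  by_contra haU
  have hq : (a : A ⧸ U) ≠ 0 := fun h => haU ((QuotientAddGroup.eq_zero_iff a).1 h)
  have h1 : a - (a : A ⧸ U).out ∈ U := QuotientAddGroup.eq_iff_sub_mem.1
    (Quotient.out_eq (a : A ⧸ U)).symm
  refine hKq ⟨_, hq⟩ ?_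
  have h2 : i a ∈ K ⟨_, hq⟩ := (AddSubgroup.mem_iInf.1 (ha : i a ∈ ⨅ q, K q)) _
  have h3 : i (a - (a : A ⧸ U).out) ∈ K ⟨_, hq⟩ := hUK ⟨_, hq⟩ h1
  rw [map_sub] at h3
  simpa using sub_mem h2 h3

theorem divisible_eq_zero_of_extension {A' A'' : Type*} [AddCommGroup A'] [AddCommGroup A'']
    (f : A' →+ A) (g : A →+ A'') (hf : Function.Injective f) (hfg : g.ker = f.range)
    (h' : ∀ x : A', (∀ n : ℕ, 0 < n → ∃ y : A', n • y = x) → x = 0)
    (h'' : ∀ x : A'', (∀ n : ℕ, 0 < n → ∃ y : A'', n • y = x) → x = 0)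
    (htors : ∃ N : ℕ, 0 < N ∧ ∀ x : A'', IsOfFinAddOrder x → N • x = 0)
    (x : A) (hx : ∀ n : ℕ, 0 < n → ∃ y : A, n • y = x) : x = 0 := by
  have hgx : g x = 0 := h'' _ fun n hn => by
    obtain ⟨y, rfl⟩ := hx n hn
    exact ⟨g y, (map_nsmul g n y).symm⟩
  obtain ⟨x', rfl⟩ : x ∈ f.range := hfg ▸ hgx
  rw [h' x' fun n hn => ?_, map_zero]
  obtain ⟨N, hN, htor⟩ := htors
  obtain ⟨y, hy⟩ := hx (n * N) (Nat.mul_pos hn hN)
  have hy0 : N • g y = 0 := htor _ (isOfFinAddOrder_iff_nsmul_eq_zero.2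
    ⟨n * N, Nat.mul_pos hn hN, by rw [← map_nsmul, hy, hgx]⟩)
  obtain ⟨y', hy'⟩ : N • y ∈ f.range := hfg ▸ (by rw [AddMonoidHom.mem_ker, map_nsmul, hy0])
  exact ⟨y', hf (by rw [map_nsmul, hy', ← mul_nsmul, mul_comm, hy])⟩

/-- Every neighbourhood of zero in a locally compact totally disconnected group contains an
open subgroup. -/
theorem exists_open_subgroup [TopologicalSpace A] [IsTopologicalAddGroup A]
    [T2Space A] [LocallyCompactSpace A] [TotallyDisconnectedSpace A] {t : Set A}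
    (ht : t ∈ 𝓝 (0 : A)) : ∃ V : AddSubgroup A, IsOpen (V : Set A) ∧ (V : Set A) ⊆ t := by
  obtain ⟨c, hc, hct, hcc⟩ := local_compact_nhds ht
  obtain ⟨W, hW, h0W, hWc⟩ := loc_compact_Haus_tot_disc_of_zero_dim.mem_nhds_iff.1 hc
  have hWcomp : IsCompact W := hcc.of_isClosed_subset hW.1 hWc
  obtain ⟨V, hV, hVW⟩ := compact_open_separated_add_left hWcomp hW.2 (Subset.refl W)
  let S : AddSubgroup A :=
    { carrier := {g | (∀ w ∈ W, g + w ∈ W) ∧ ∀ w ∈ W, -g + w ∈ W}
      zero_mem' := ⟨fun w hw => by simpa using hw, fun w hw => by simpa using hw⟩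
      add_mem' := fun {g g'} hg hg' => ⟨fun w hw => by
          rw [add_assoc]; exact hg.1 _ (hg'.1 _ hw),
        fun w hw => by
          rw [neg_add_rev, add_assoc]; exact hg'.2 _ (hg.2 _ hw)⟩
      neg_mem' := fun {g} hg => ⟨hg.2, by simpa using hg.1⟩ }
  have hS : (S : Set A) ∈ 𝓝 (0 : A) := by
    refine mem_of_superset (inter_mem hV (neg_mem_nhds_zero A hV)) ?_
    intro g hg
    exact ⟨fun w hw => hVW (Set.add_mem_add hg.1 hw),
      fun w hw => hVW (Set.add_mem_add (by simpa using hg.2) hw)⟩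
  exact ⟨S, S.isOpen_of_mem_nhds hS, fun g hg => hct (hWc (by simpa using hg.1 0 h0W))⟩

theorem fg_quotient_of_compactlyGenerated [TopologicalSpace A] [IsTopologicalAddGroup A]
    (hcg : ∃ K : Set A, IsCompact K ∧ AddSubgroup.closure K = ⊤)
    (W : AddSubgroup A) (hW : IsOpen (W : Set A)) : AddGroup.FG (A ⧸ W) := by
  obtain ⟨K, hK, hgen⟩ := hcg
  have : DiscreteTopology (A ⧸ W) := QuotientAddGroup.discreteTopology hW
  refine AddGroup.fg_iff.2 ⟨QuotientAddGroup.mk' W '' K, ?_, ?_⟩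
  · rw [← AddMonoidHom.map_closure, hgen]
    exact AddSubgroup.map_top_of_surjective _ (QuotientAddGroup.mk'_surjective W)
  · exact (hK.image QuotientAddGroup.continuous_mk).finite_of_discrete

theorem exists_extension {B' : Type*} [AddCommGroup B'] (i : A →+ B') (hi : Function.Injective i)
    (χ : A →+ ℚ ⧸ AddSubgroup.zmultiples (1 : ℚ)) :
    ∃ ψ : B' →+ ℚ ⧸ AddSubgroup.zmultiples (1 : ℚ), ψ.comp i = χ := by
  obtain ⟨ψ, hψ⟩ := CharacterModule.dual_surjective_of_injective i.toIntLinearMap hi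
    (show CharacterModule A from χ)
  exact ⟨ψ, AddMonoidHom.ext fun a => DFunLike.congr_fun hψ a⟩

end Groth.Agent.PC28
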