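import Groth.Prelude.Def_W4c61motalbdualityCompl
import Mathlib.Topology.Algebra.Group.Quotient
import Mathlib.Topology.Separation.Basic
import Mathlib.GroupTheory.Index

/-!
Compactness arguments for `FICompl`.
-/

namespace Groth.Agent.PC28

open W4c61motalbduality Set

variable {A : Type*} [AddCommGroup A] [TopologicalSpace A]
variable {B : Type*} [AddCommGroup B] [TopologicalSpace B]

theorem exists_inf_openFI (s : Finset (OpenFI A)) :
    ∃ W : OpenFI A, ∀ V ∈ s, W.toAddSubgroup ≤ V.toAddSubgroup := by
  classical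
  induction s using Finset.induction with
  | empty => exact ⟨⟨⊤, by simp, inferInstance⟩, fun V hV => absurd hV (Finset.notMem_empty V)⟩
  | insert V s _ ih =>
    obtain ⟨W, hW⟩ := ih
    have := V.finiteIndex'
    have := W.finiteIndex'
    refine ⟨⟨V.toAddSubgroup ⊓ W.toAddSubgroup, V.isOpen'.inter W.isOpen', inferInstance⟩,
      fun U hU => ?_⟩
    rcases Finset.mem_insert.1 hU with rfl | hU
    · exact inf_le_left
    · exact inf_le_right.trans (hW U hU)

theorem ficompl_mem_range_map (f : A →+ B) (hf : Continuous f) (y : FICompl B)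
    (h : ∀ V : OpenFI B, ∃ a : A, (f a : B ⧸ V.toAddSubgroup) = y.1 V) :
    y ∈ (FICompl.map f hf).range := by
  classical
  letI : ∀ U : OpenFI A, TopologicalSpace (A ⧸ U.toAddSubgroup) := fun U => ⊥
  haveI : ∀ U : OpenFI A, DiscreteTopology (A ⧸ U.toAddSubgroup) := fun U => ⟨rfl⟩
  haveI : ∀ U : OpenFI A, Finite (A ⧸ U.toAddSubgroup) := fun U => by
    have := U.finiteIndex'
    infer_instance
  haveI : ∀ U : OpenFI A, CompactSpace (A ⧸ U.toAddSubgroup) := fun U => Finite.compactSpace
  let X := (U : OpenFI A) → A ⧸ U.toAddSubgroup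
  let C : Set X := (FICompl A : Set X)
  have hC : IsClosed C := by
    have : C = ⋂ (U : OpenFI A) (V : OpenFI A) (h : U.toAddSubgroup ≤ V.toAddSubgroup),
        {x : X | QuotientAddGroup.map U.toAddSubgroup V.toAddSubgroup (AddMonoidHom.id A) h (x U) = x V} := by
      ext x
      simp only [mem_iInter]
      rfl
    rw [this]
    exact isClosed_iInter fun U => isClosed_iInter fun V => isClosed_iInter fun h =>
      isClosed_eq (continuous_of_discreteTopology.comp (continuous_apply U)) (continuous_apply V)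
  let S : OpenFI B → Set X := fun V => (fun x : X => x (V.comap f hf)) ⁻¹'
    {q | QuotientAddGroup.map (V.comap f hf).toAddSubgroup V.toAddSubgroup f (V.comap_le f) q = y.1 V}
  have hS : ∀ V, IsClosed (S V) := fun V =>
    (isClosed_discrete _).preimage (continuous_apply _)
  obtain ⟨x, hxC, hxS⟩ := hC.isCompact.inter_iInter_nonempty S hS fun s => by
    obtain ⟨W, hW⟩ := exists_inf_openFI s
    obtain ⟨a, ha⟩ := h W
    refine ⟨(toFICompl A a).1, (toFICompl A a).2, mem_iInter₂.2 fun V hV => ?_⟩
    show ((f a : B) : B ⧸ V.toAddSubgroup) = y.1 V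
    rw [← y.2 W V (hW V hV), ← ha]
    rfl
  exact ⟨⟨x, hxC⟩, Subtype.ext (funext fun V => mem_iInter.1 hxS V)⟩

end Groth.Agent.PC28
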