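import Mathlib.Topology.Algebra.Category.ProfiniteGrp.Completion

/-!
Components of the functorial map of profinite completions.
-/

namespace Groth.Agent.PC28

open CategoryTheory ProfiniteGrp

universe u

variable {G H : Type u} [Group G] [Group H]

theorem completion_map_eta (f : G →* H) (g : G) :
    (profiniteCompletion.map (GrpCat.ofHom f)).hom (ProfiniteCompletion.etaFn (GrpCat.of G) g) =
      ProfiniteCompletion.etaFn (GrpCat.of H) (f g) := by
  have h := ProfiniteCompletion.lift_eta (GrpCat.ofHom f ≫ ProfiniteCompletion.eta (GrpCat.of H))
  exact ConcreteCategory.congr_hom h g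

theorem completion_map_apply (f : G →* H)
    (x : (profiniteCompletion.obj (GrpCat.of G))) (K : FiniteIndexNormalSubgroup H) :
    ((profiniteCompletion.map (GrpCat.ofHom f)).hom x).val K =
      QuotientGroup.map _ K.toSubgroup f (fun _ h => h) (x.val (K.comap f)) := by
  let Y := (ProfiniteCompletion.diagram (GrpCat.of H)).obj K
  let φ : (profiniteCompletion.obj (GrpCat.of G)) → Y := fun x =>
    ((profiniteCompletion.map (GrpCat.ofHom f)).hom x).val K
  let ψ : (profiniteCompletion.obj (GrpCat.of G)) → Y := fun x =>
    QuotientGroup.map _ K.toSubgroup f (fun _ h => h) (x.val (K.comap f))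
  have hd : DenseRange (ProfiniteCompletion.etaFn (GrpCat.of G)) := ProfiniteCompletion.denseRange _
  have : DiscreteTopology ((ProfiniteCompletion.diagram (GrpCat.of G)).obj (K.comap f)) := ⟨rfl⟩
  have key : φ = ψ := by
    refine hd.equalizer ?_ ?_ ?_
    · exact ((continuous_apply K).comp continuous_subtype_val).comp
        (profiniteCompletion.map (GrpCat.ofHom f)).hom.continuous_toFun
    · exact Continuous.comp continuous_of_discreteTopology
        ((continuous_apply (K.comap f)).comp continuous_subtype_val)
    · funext g
      show ((profiniteCompletion.map (GrpCat.ofHom f)).hom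
        (ProfiniteCompletion.etaFn (GrpCat.of G) g)).val K = _
      rw [completion_map_eta f g]
      rfl
  exact congrFun key x

end Groth.Agent.PC28
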